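import Groth.Agent.Misc3.EtFieldTorsion
import Groth.Agent.EtMV.Etale
import Mathlib.FieldTheory.PrimitiveElement
import Mathlib.FieldTheory.Separable

/-! Transfer for finite separable field extensions on small etale sites; pullback of torsion sheaves. -/

set_option autoImplicit false
set_option backward.isDefEq.respectTransparency false
set_option linter.auxLemma false
set_option linter.style.haveILetI false
universe u

open CategoryTheory CategoryTheory.Limits CategoryTheory.Abelian AlgebraicGeometry Opposite

noncomputable section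

namespace Groth.Agent.GalCohLib

attribute [local instance 100000] EtCoh.H._proof_1 EtMV.hext
attribute [local instance 200000] EtMV.hextAb

/-- Pullback along an etale map preserves torsion. -/
theorem isTorsion_pull {X Y : Scheme.{u}} (h : Y ⟶ X) [Etale h] (F : EtCoh.Ab X) (hF : EtCoh.IsTorsion F) :
    EtCoh.IsTorsion ((EtCoh.pull h).obj F) := by
  haveI := EtMV.jcont_etale h
  intro U s x
  let e := (EtPushStalk.restrPullIso h).app F
  obtain ⟨V, g, ⟨v, hv⟩, hfin⟩ := hF ((EtShriek.compEtale h).obj U) ((e.inv.hom.app (op U)).hom s) x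
  have w : g.left ≫ U.hom ≫ h = V.hom := MorphismProperty.Over.w g
  haveI : Etale ((g.left ≫ U.hom) ≫ h) := by
    rw [Category.assoc, w]; exact V.prop
  haveI : Etale (g.left ≫ U.hom) :=
    EtCoh.etaleMP.of_postcomp (W' := EtCoh.etaleMP) (g.left ≫ U.hom) h inferInstance inferInstance
  let V' : Y.Etale := Scheme.Etale.mk (g.left ≫ U.hom)
  let g' : V' ⟶ U := MorphismProperty.Over.homMk g.left rfl
  refine ⟨V', g', ⟨v, hv⟩, ?_⟩
  let φ : (EtShriek.compEtale h).obj V' ⟶ V :=
    MorphismProperty.Over.homMk (𝟙 V.left) ((Category.id_comp _).trans (w.symm.trans (Category.assoc _ _ _).symm))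
  have hφ : φ ≫ g = (EtShriek.compEtale h).map g' := by
    apply MorphismProperty.Over.Hom.ext
    exact Category.id_comp _
  have hback : s = (e.hom.hom.app (op U)).hom ((e.inv.hom.app (op U)).hom s) :=
    (congrArg (fun z => (z.hom.app (op U)).hom s) e.inv_hom_id).symm
  rw [hback]
  have hnat := NatTrans.naturality_apply e.hom.hom g'.op ((e.inv.hom.app (op U)).hom s)
  refine (congrArg IsOfFinAddOrder hnat).mp ?_
  refine AddMonoidHom.isOfFinAddOrder (e.hom.hom.app (op V')).hom ?_
  have h2 : ((EtShriek.restrAlong h).obj F).obj.map g'.op ((e.inv.hom.app (op U)).hom s) =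
      F.obj.map φ.op (F.obj.map g.op ((e.inv.hom.app (op U)).hom s)) :=
    (congrArg (fun z => (F.obj.map z).hom ((e.inv.hom.app (op U)).hom s)) (congrArg Quiver.Hom.op hφ.symm)).trans
      (congrArg (fun z => z.hom ((e.inv.hom.app (op U)).hom s)) (F.obj.map_comp g.op φ.op))
  exact (congrArg IsOfFinAddOrder h2).mpr (AddMonoidHom.isOfFinAddOrder (F.obj.map φ.op).hom hfin)

variable (k K : Type u) [Field k] [Field K] [Algebra k K] [FiniteDimensional k K] [Algebra.IsSeparable k K]

/-- The structure map of a finite separable extension is etale. -/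
theorem etale_spec : Etale (Spec.map (CommRingCat.ofHom (algebraMap k K))) := by
  rw [HasRingHomProperty.Spec_iff (P := @Etale)]
  haveI : Algebra.FormallyEtale k K := Algebra.FormallyEtale.of_isSeparable k K
  haveI : Algebra.FinitePresentation k K := Algebra.FinitePresentation.of_finiteType.mp inferInstance
  haveI : Algebra.Etale k K := ⟨inferInstance, inferInstance⟩
  exact RingHom.etale_algebraMap.mpr this

/-- The point of the small etale site given by a finite separable extension. -/
def pt : (Spec (CommRingCat.of k)).Etale :=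
  MorphismProperty.Over.mk ⊤ (Spec.map (CommRingCat.ofHom (algebraMap k K))) (etale_spec k K)

theorem card_algHom (M : Type u) [Field M] [Algebra k M] [Normal k M] (e : K →ₐ[k] M) :
    Nat.card (K →ₐ[k] M) = Module.finrank k K := by
  let pb := Field.powerBasisOfFiniteOfSeparable k K
  rw [AlgHom.natCard_of_powerBasis pb (Algebra.IsSeparable.isSeparable k pb.gen), pb.finrank]
  rw [← minpoly.algHom_eq e e.toRingHom.injective pb.gen]
  exact Normal.splits inferInstance _

/-- The trace from the final free sheaf to the free sheaf of the extension. -/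
theorem exists_trace :
    ∃ t : (EtMV.P (Spec (CommRingCat.of k))).obj (EtCoh.top _) ⟶ (EtMV.P _).obj (pt k K),
      t ≫ (EtMV.P _).map (EtMV.toTop (pt k K)) = Module.finrank k K • 𝟙 _ := by
  classical
  let X := Spec (CommRingCat.of k)
  let M := IntermediateField.normalClosure k K (SeparableClosure k)
  haveI : IsGalois k M := IsGalois.normalClosure k K (SeparableClosure k)
  let Z := pt k M
  let Y := pt k K
  let F := (EtMV.P X).obj Y
  have hZ : Function.Surjective Z.hom.base := fun x =>
    ⟨(default : ↥(Spec (CommRingCat.of M))), @Subsingleton.elim ↥(Spec (CommRingCat.of k)) _ _ _⟩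
  let ε : (K →ₐ[k] M) → (Z ⟶ Y) := fun e => MorphismProperty.Over.homMk
    (Spec.map (CommRingCat.ofHom e.toRingHom)) (by
      show Spec.map _ ≫ Spec.map _ = Spec.map _
      rw [← Spec.map_comp]
      congr 1
      exact CommRingCat.hom_ext (RingHom.ext fun x => e.commutes x))
  let s : EtCoh.sect F Z := ∑ e, EtFLC.res F (ε e) (EtMV.uel Y)
  have hs : ∀ {T : X.Etale} (p q : T ⟶ Z), EtFLC.res F p s = EtFLC.res F q s := by
    intro T p q
    refine EtFLC.sect_ext F fun z => ?_
    let κ := T.left.residueField z
    obtain ⟨α, hα⟩ := Spec.map_surjective (T.left.fromSpecResidueField z ≫ p.left)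
    obtain ⟨β, hβ⟩ := Spec.map_surjective (T.left.fromSpecResidueField z ≫ q.left)
    have hαβ : ∀ x : k, α.hom (algebraMap k M x) = β.hom (algebraMap k M x) := by
      have e : CommRingCat.ofHom (algebraMap k M) ≫ α = CommRingCat.ofHom (algebraMap k M) ≫ β := by
        apply Spec.map_injective
        rw [Spec.map_comp, Spec.map_comp, hα, hβ, Category.assoc, Category.assoc]
        exact congrArg _ ((MorphismProperty.Over.w p).trans (MorphismProperty.Over.w q).symm)
      exact fun x => RingHom.congr_fun (congrArg CommRingCat.Hom.hom e) x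
    letI : Algebra M κ := α.hom.toAlgebra
    letI : Algebra k κ := (α.hom.comp (algebraMap k M)).toAlgebra
    haveI : IsScalarTower k M κ := IsScalarTower.of_algebraMap_eq fun _ => rfl
    let β' : M →ₐ[k] κ := { β.hom with commutes' := fun x => (hαβ x).symm }
    let g := β'.restrictNormal' M
    let σ : Z ⟶ Z := MorphismProperty.Over.homMk (Spec.map (CommRingCat.ofHom g.toAlgHom.toRingHom)) (by
      show Spec.map _ ≫ Spec.map _ = Spec.map _
      rw [← Spec.map_comp]
      congr 1
      exact CommRingCat.hom_ext (RingHom.ext fun x => g.commutes x))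
    have hg : ∀ x, α.hom (g x) = β.hom x := fun x => β'.restrictNormal_commutes M x
    have hpt : T.left.fromSpecResidueField z ≫ q.left = T.left.fromSpecResidueField z ≫ (p ≫ σ).left := by
      rw [MorphismProperty.Comma.comp_left]
      show _ = _ ≫ p.left ≫ Spec.map _
      rw [← hβ, ← Category.assoc, ← hα, ← Spec.map_comp]
      congr 1
      exact CommRingCat.hom_ext (RingHom.ext fun x => (hg x).symm)
    obtain ⟨T', j, w, hw, hj⟩ := Misc3.EtFieldTorsion.exists_nhd_eq q (p ≫ σ) z hpt
    refine ⟨T', j, w, hw, ?_⟩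
    rw [EtFLC.res_res, EtFLC.res_res, hj]
    simp only [s, map_sum, EtFLC.res_res]
    symm
    refine Fintype.sum_equiv (AlgEquiv.arrowCongr AlgEquiv.refl g) _ _ fun e => ?_
    congr 2
    simp only [Category.assoc]
    congr 2
    apply MorphismProperty.Over.Hom.ext
    rw [MorphismProperty.Comma.comp_left]
    show Spec.map _ ≫ Spec.map _ = Spec.map _
    rw [← Spec.map_comp]
    rfl
  obtain ⟨t, ht⟩ := Misc3.EtTransfer.exists_descend F Z hZ s hs
  refine ⟨EtMV.σ.symm t, EtMV.σ.injective ?_⟩
  let π := EtMV.toTop Z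
  let N := (EtMV.P X).obj (EtCoh.top X)
  rw [EtMV.σ_comp, Equiv.apply_symm_apply]
  have hinj : ∀ a b : EtCoh.sect N (EtCoh.top X), EtFLC.res N π a = EtFLC.res N π b → a = b := by
    intro a b hab
    refine EtFLC.sect_ext N fun x => ?_
    obtain ⟨y, hy⟩ := hZ x
    exact ⟨Z, π, y, hy, hab⟩
  refine hinj _ _ ?_
  rw [← EtFLC.app_res, ht]
  have h1 : ∀ e, (((EtMV.P X).map (EtMV.toTop Y)).hom.app (op Z)).hom (EtFLC.res F (ε e) (EtMV.uel Y)) =
      EtFLC.res N π (EtMV.uel (EtCoh.top X)) := by
    intro e
    rw [EtFLC.app_res, ← EtMV.σ_eq]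
    change N.obj.map (ε e).op _ = N.obj.map π.op _
    rw [EtMV.uel, ← EtMV.σ_map, ← EtMV.σ_map, Category.comp_id, ← Functor.map_comp,
      EtMV.hom_top_ext (ε e ≫ EtMV.toTop Y) π]
  simp only [s, map_sum]
  refine (Finset.sum_congr rfl fun e _ => h1 e).trans ?_
  rw [Finset.sum_const, Finset.card_univ, ← map_nsmul, Fintype.card_eq_nat_card,
    card_algHom k K M (IsSepClosed.lift (M := SeparableClosure k) |>.codRestrict M.toSubalgebra fun x =>
      (IsSepClosed.lift (M := SeparableClosure k) : K →ₐ[k] _).fieldRange_le_normalClosure ⟨x, rfl⟩)]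
  congr 1

/-- Transfer: a class killed by restriction to the extension is killed by its degree. -/
theorem finrank_nsmul_eq_zero (F : EtCoh.Ab (Spec (CommRingCat.of k))) (n : ℕ)
    (c : Ext ((EtMV.P _).obj (EtCoh.top (Spec (CommRingCat.of k)))) F n)
    (hc : (Ext.mk₀ ((EtMV.P _).map (EtMV.toTop (pt k K)))).comp c (zero_add n) = 0) :
    Module.finrank k K • c = 0 := by
  obtain ⟨t, ht⟩ := exists_trace k K
  let N := (EtMV.P (Spec (CommRingCat.of k))).obj (EtCoh.top _)
  calc Module.finrank k K • c = (Ext.mk₀ (Module.finrank k K • 𝟙 N)).comp c (zero_add n) := by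
        induction Module.finrank k K with
        | zero => rw [zero_smul, zero_smul, Ext.mk₀_zero, Ext.zero_comp]
        | succ m ih => rw [succ_nsmul, succ_nsmul, Ext.mk₀_add, Ext.add_comp, ← ih, Ext.mk₀_id_comp]
    _ = 0 := by rw [← ht, ← Ext.mk₀_comp_mk₀_assoc, hc, Ext.comp_zero]

end Groth.Agent.GalCohLib
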