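import Groth.Agent.GalCohLib.FieldTransfer
import Groth.Agent.EtMV.Main
import Mathlib.GroupTheory.Sylow
import Mathlib.FieldTheory.Galois.Basic

/-! Relative transfer along a Galois covering inside the small etale site; index prime to `p`. -/

set_option autoImplicit false
set_option backward.isDefEq.respectTransparency false
set_option linter.auxLemma false
set_option linter.style.haveILetI false
universe u

open CategoryTheory CategoryTheory.Limits CategoryTheory.Abelian AlgebraicGeometry Opposite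

noncomputable section

namespace Groth.Agent.GalCohLib

attribute [local instance 100000] EtCoh.H._proof_1 EtMV.hext
attribute [local instance 200000] EtMV.hextAb

/-- Restriction to an etale scheme in terms of free sheaves. -/
theorem Hpull_eX_etale {X Y : Scheme.{u}} (h : Y ⟶ X) [Etale h] [PreservesFiniteLimits (EtCoh.pull h)]
    (F : EtCoh.Ab X) (n : ℕ) (y : Ext ((EtMV.P X).obj (EtCoh.top X)) F n) :
    EtCore.Hpull h F n (EtMV.eX X F n y) =
      EtMV.Φe h F n ((Ext.mk₀ ((EtMV.P X).map (EtMV.toTop (Scheme.Etale.mk h)))).comp y (zero_add n)) := by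
  refine (EtMV.Hpull_eq h F n (EtMV.eX X F n y)).trans ?_
  refine (congrArg (EtMV.T (EtCoh.pull h) (EtMV.cc h (EtMV.δtop h)) F n)
    (EtMV.inv_comp_preIso (EtMV.θ X) F n y)).trans ?_
  show _ = EtMV.T (EtCoh.pull h) (EtMV.cc h (EtMV.δd h)) F n _
  rw [EtMV.T_precomp]
  congr 2
  apply (EtMV.κ_bijective _).1
  rw [EtMV.κ_cc_map, EtMV.κ_cc, ← Category.comp_id ((EtMV.P X).map _), EtMV.σ_map]
  exact (EtMV.r_res h (EtMV.δtop h) (EtMV.δd h) (EtMV.toTop (Scheme.Etale.mk h)) EtMV.thin_top _
    (EtMV.uel _)).symm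

variable {X : Scheme.{u}}

/-- Descent along a surjection of the small etale site. -/
theorem exists_descend_rel (F : EtCoh.Ab X) {Z Y : X.Etale} (π : Z ⟶ Y) (hπ : Function.Surjective π.left.base)
    (s : EtCoh.sect F Z)
    (hs : ∀ {T : X.Etale} (p q : T ⟶ Z), p ≫ π = q ≫ π → EtFLC.res F p s = EtFLC.res F q s) :
    ∃ t : EtCoh.sect F Y, EtFLC.res F π t = s := by
  let P : X.Etaleᵒᵖ ⥤ Type (u + 1) := F.obj ⋙ forget AddCommGrpCat.{u + 1}
  have hsh : Presieve.IsSheaf X.smallEtaleTopology P :=
    (isSheaf_iff_isSheaf_of_type _ _).1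
      ((sheafCompose X.smallEtaleTopology (forget AddCommGrpCat.{u + 1})).obj F).property
  have hmem : Sieve.ofArrows (fun _ : PUnit.{u + 1} => Z) (fun _ => π) ∈ X.smallEtaleTopology Y := by
    rw [Scheme.ofArrows_mem_smallEtaleTopology_iff]
    refine Set.eq_univ_of_forall fun x => ?_
    obtain ⟨y, hy⟩ := hπ x
    exact Set.mem_iUnion.2 ⟨⟨⟩, y, hy⟩
  have h := (Presieve.isSheafFor_iff_generate _).2 (hsh _ hmem)
  rw [Presieve.ofArrows_pUnit, Presieve.isSheafFor_singleton] at h
  obtain ⟨t, ht, -⟩ := h s fun {T} p q e => hs p q e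
  exact ⟨t, ht⟩

variable (k : Type u) [Field k]

section Tower

variable (L' M : Type u) [Field L'] [Field M] [Algebra k L'] [Algebra k M] [Algebra L' M] [IsScalarTower k L' M]
  [FiniteDimensional k L'] [Algebra.IsSeparable k L'] [FiniteDimensional k M] [Algebra.IsSeparable k M]

/-- The map of points of a tower. -/
def ptMap : pt k M ⟶ pt k L' :=
  MorphismProperty.Over.homMk (Spec.map (CommRingCat.ofHom (algebraMap L' M))) (by
    show Spec.map _ ≫ Spec.map _ = Spec.map _
    rw [← Spec.map_comp]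
    congr 1
    exact CommRingCat.hom_ext (RingHom.ext fun x => (IsScalarTower.algebraMap_apply k L' M x).symm))

theorem rel_card_nsmul_eq_zero [FiniteDimensional L' M] [IsGalois L' M]
    (F : EtCoh.Ab (Spec (CommRingCat.of k))) (n : ℕ) (c : Ext ((EtMV.P _).obj (pt k L')) F n)
    (hc : (Ext.mk₀ ((EtMV.P _).map (ptMap k L' M))).comp c (zero_add n) = 0) :
    Fintype.card (M ≃ₐ[L'] M) • c = 0 := by
  classical
  let Xk := Spec (CommRingCat.of k)
  let π := ptMap k L' M
  let Z := pt k M
  let G := (EtMV.P Xk).obj Z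
  let N := (EtMV.P Xk).obj (pt k L')
  have hπ : Function.Surjective π.left.base := fun x =>
    ⟨(default : ↥(Spec (CommRingCat.of M))), @Subsingleton.elim ↥(Spec (CommRingCat.of L')) _ _ _⟩
  let σ : (M ≃ₐ[L'] M) → (Z ⟶ Z) := fun g => MorphismProperty.Over.homMk
    (Spec.map (CommRingCat.ofHom g.toAlgHom.toRingHom)) (by
      show Spec.map _ ≫ Spec.map _ = Spec.map _
      rw [← Spec.map_comp]
      congr 1
      exact CommRingCat.hom_ext (RingHom.ext fun x => (g.restrictScalars k).commutes x))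
  have hσπ : ∀ g, σ g ≫ π = π := fun g => by
    apply MorphismProperty.Over.Hom.ext
    rw [MorphismProperty.Comma.comp_left]
    show Spec.map _ ≫ Spec.map _ = Spec.map _
    rw [← Spec.map_comp]
    congr 1
    exact CommRingCat.hom_ext (RingHom.ext fun x => g.commutes x)
  let s : EtCoh.sect G Z := ∑ g, EtFLC.res G (σ g) (EtMV.uel Z)
  have hs : ∀ {T : Xk.Etale} (p q : T ⟶ Z), p ≫ π = q ≫ π → EtFLC.res G p s = EtFLC.res G q s := by
    intro T p q hpq
    refine EtFLC.sect_ext G fun z => ?_
    let κ := T.left.residueField z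
    obtain ⟨α, hα⟩ := Spec.map_surjective (T.left.fromSpecResidueField z ≫ p.left)
    obtain ⟨β, hβ⟩ := Spec.map_surjective (T.left.fromSpecResidueField z ≫ q.left)
    have hαβ : ∀ x : L', α.hom (algebraMap L' M x) = β.hom (algebraMap L' M x) := by
      have e : CommRingCat.ofHom (algebraMap L' M) ≫ α = CommRingCat.ofHom (algebraMap L' M) ≫ β := by
        apply Spec.map_injective
        rw [Spec.map_comp, Spec.map_comp, hα, hβ, Category.assoc, Category.assoc]
        exact congrArg _ (congrArg (fun f : T ⟶ pt k L' => f.left) hpq)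
      exact fun x => RingHom.congr_fun (congrArg CommRingCat.Hom.hom e) x
    letI : Algebra M κ := α.hom.toAlgebra
    letI : Algebra L' κ := (α.hom.comp (algebraMap L' M)).toAlgebra
    haveI : IsScalarTower L' M κ := IsScalarTower.of_algebraMap_eq fun _ => rfl
    let β' : M →ₐ[L'] κ := { β.hom with commutes' := fun x => (hαβ x).symm }
    let g := β'.restrictNormal' M
    have hg : ∀ x, α.hom (g x) = β.hom x := fun x => β'.restrictNormal_commutes M x
    have hpt : T.left.fromSpecResidueField z ≫ q.left = T.left.fromSpecResidueField z ≫ (p ≫ σ g).left := by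
      rw [MorphismProperty.Comma.comp_left]
      show _ = _ ≫ p.left ≫ Spec.map _
      rw [← hβ, ← Category.assoc, ← hα, ← Spec.map_comp]
      congr 1
      exact CommRingCat.hom_ext (RingHom.ext fun x => (hg x).symm)
    obtain ⟨T', j, w, hw, hj⟩ := Misc3.EtFieldTorsion.exists_nhd_eq q (p ≫ σ g) z hpt
    refine ⟨T', j, w, hw, ?_⟩
    rw [EtFLC.res_res, EtFLC.res_res, hj]
    simp only [s, map_sum, EtFLC.res_res]
    symm
    refine Fintype.sum_equiv (Equiv.mulLeft g) _ _ fun e => ?_
    congr 2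
    simp only [Category.assoc, Equiv.coe_mulLeft]
    congr 2
    apply MorphismProperty.Over.Hom.ext
    rw [MorphismProperty.Comma.comp_left]
    show Spec.map _ ≫ Spec.map _ = Spec.map _
    rw [← Spec.map_comp]
    rfl
  obtain ⟨t, ht⟩ := exists_descend_rel G π hπ s hs
  have key : EtMV.σ.symm t ≫ (EtMV.P Xk).map π = Fintype.card (M ≃ₐ[L'] M) • 𝟙 N := by
    apply EtMV.σ.injective
    rw [EtMV.σ_comp, Equiv.apply_symm_apply]
    have hinj : ∀ a b : EtCoh.sect N (pt k L'), EtFLC.res N π a = EtFLC.res N π b → a = b := by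
      intro a b hab
      refine EtFLC.sect_ext N fun x => ?_
      obtain ⟨y, hy⟩ := hπ x
      exact ⟨Z, π, y, hy, hab⟩
    refine hinj _ _ ?_
    rw [← EtFLC.app_res, ht]
    have h1 : ∀ g, (((EtMV.P Xk).map π).hom.app (op Z)).hom (EtFLC.res G (σ g) (EtMV.uel Z)) =
        EtFLC.res N π (EtMV.uel (pt k L')) := by
      intro g
      rw [EtFLC.app_res, ← EtMV.σ_eq]
      change N.obj.map (σ g).op _ = N.obj.map π.op _
      rw [EtMV.uel, ← EtMV.σ_map, ← EtMV.σ_map, Category.comp_id, ← Functor.map_comp, hσπ g]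
    simp only [s, map_sum]
    refine (Finset.sum_congr rfl fun g _ => h1 g).trans ?_
    rw [Finset.sum_const, Finset.card_univ, ← map_nsmul]
    congr 1
  calc Fintype.card (M ≃ₐ[L'] M) • c
      = (Ext.mk₀ (Fintype.card (M ≃ₐ[L'] M) • 𝟙 N)).comp c (zero_add n) := by
        induction Fintype.card (M ≃ₐ[L'] M) with
        | zero => rw [zero_smul, zero_smul, Ext.mk₀_zero, Ext.zero_comp]
        | succ m ih => rw [succ_nsmul, succ_nsmul, Ext.mk₀_add, Ext.add_comp, ← ih, Ext.mk₀_id_comp]
    _ = 0 := by rw [← key, ← Ext.mk₀_comp_mk₀_assoc, hc, Ext.comp_zero]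

end Tower

variable (K : Type u) [Field K] [Algebra k K] [FiniteDimensional k K] [Algebra.IsSeparable k K]

/-- A class killed by a finite separable extension and of order prime to `p` is killed by an extension
of degree prime to `p`. -/
theorem exists_killing_prime_to (F : EtCoh.Ab (Spec (CommRingCat.of k))) (n : ℕ)
    (c : Ext ((EtMV.P _).obj (EtCoh.top (Spec (CommRingCat.of k)))) F n)
    (hc : (Ext.mk₀ ((EtMV.P _).map (EtMV.toTop (pt k K)))).comp c (zero_add n) = 0)
    (p : ℕ) (hp : p.Prime) (hcp : ¬ p ∣ addOrderOf c) :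
    ∃ (L' : Type u) (_ : Field L') (_ : Algebra k L') (_ : FiniteDimensional k L') (_ : Algebra.IsSeparable k L'),
      ¬ p ∣ Module.finrank k L' ∧
        (Ext.mk₀ ((EtMV.P _).map (EtMV.toTop (pt k L')))).comp c (zero_add n) = 0 := by
  classical
  haveI := Fact.mk hp
  let Ω := SeparableClosure k
  let M := IntermediateField.normalClosure k K Ω
  haveI : IsGalois k M := IsGalois.normalClosure k K Ω
  obtain ⟨S⟩ : Nonempty (Sylow p (M ≃ₐ[k] M)) := inferInstance
  let L' := IntermediateField.fixedField (S : Subgroup (M ≃ₐ[k] M))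
  haveI : Algebra.IsSeparable k L' := Algebra.isSeparable_tower_bot_of_isSeparable k L' M
  refine ⟨L', inferInstance, inferInstance, inferInstance, inferInstance, ?_, ?_⟩
  · have h := IntermediateField.finrank_eq_fixingSubgroup_index (F := k) (E' := M) L'
    rw [IntermediateField.fixingSubgroup_fixedField] at h
    intro hd
    exact S.not_dvd_index (h ▸ hd)
  · let e : K →ₐ[k] M := (IsSepClosed.lift (M := Ω)).codRestrict M.toSubalgebra fun x =>
      (IsSepClosed.lift (M := Ω) : K →ₐ[k] Ω).fieldRange_le_normalClosure ⟨x, rfl⟩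
    let ε : pt k M ⟶ pt k K := MorphismProperty.Over.homMk (Spec.map (CommRingCat.ofHom e.toRingHom)) (by
      show Spec.map _ ≫ Spec.map _ = Spec.map _
      rw [← Spec.map_comp]
      congr 1
      exact CommRingCat.hom_ext (RingHom.ext fun x => e.commutes x))
    let f := (EtMV.P (Spec (CommRingCat.of k))).map (EtMV.toTop (pt k L'))
    let c' := (Ext.mk₀ f).comp c (zero_add n)
    have h0 : (Ext.mk₀ ((EtMV.P _).map (ptMap k L' M))).comp c' (zero_add n) = 0 := by
      rw [Ext.mk₀_comp_mk₀_assoc, ← Functor.map_comp,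
        EtMV.hom_top_ext (ptMap k L' M ≫ EtMV.toTop (pt k L')) (ε ≫ EtMV.toTop (pt k K)),
        Functor.map_comp, ← Ext.mk₀_comp_mk₀_assoc, hc, Ext.comp_zero]
    have h1 := rel_card_nsmul_eq_zero k L' M F n c' h0
    have hcard : Fintype.card (M ≃ₐ[L'] M) = Nat.card S := by
      rw [Fintype.card_eq_nat_card, ← Nat.card_congr (IntermediateField.fixingSubgroupEquiv L').toEquiv,
        IntermediateField.fixingSubgroup_fixedField]
    rw [hcard, S.card_eq_multiplicity] at h1
    have h2 : addOrderOf c' ∣ addOrderOf c :=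
      addOrderOf_map_dvd (Ext.precomp (Ext.mk₀ f) F (zero_add n)) c
    have hcop : Nat.Coprime (addOrderOf c) (p ^ (Nat.card (M ≃ₐ[k] M)).factorization p) :=
      Nat.Coprime.pow_right _ ((hp.coprime_iff_not_dvd).mpr hcp).symm
    have h3 : addOrderOf c' ∣ 1 := by
      rw [← hcop.gcd_eq_one]
      exact Nat.dvd_gcd h2 (addOrderOf_dvd_of_nsmul_eq_zero h1)
    exact AddMonoid.addOrderOf_eq_one_iff.mp (Nat.eq_one_of_dvd_one h3)

end Groth.Agent.GalCohLib
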